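import Groth.Prelude.Def_ProEtS
import Groth.Agent.BigSiteLib.Shriek
import Mathlib.CategoryTheory.Preadditive.Injective.Basic

/-!
# The small pro-etale site inside the big one: exactness of inverse images
-/

universe u

open CategoryTheory CategoryTheory.Limits AlgebraicGeometry Opposite

namespace Groth.Agent.ProBig71

variable {T S : Scheme.{u}}

theorem repFlat_forget (S : Scheme.{u}) : RepresentablyFlat (Scheme.ProEt.forget S) := by
  have : PreservesFiniteLimits (Scheme.ProEt.forget S) := inferInstance
  exact flat_of_preservesFiniteLimits _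

theorem lan_preservesFiniteLimits (f : T ⟶ S) :
    PreservesFiniteLimits ((Scheme.ProEt.forget T ⋙ Over.map f).op.lan :
      (T.ProEtᵒᵖ ⥤ AddCommGrpCat.{u + 1}) ⥤ (Over S)ᵒᵖ ⥤ AddCommGrpCat.{u + 1}) := by
  have := repFlat_forget T
  have := BigSiteLib.lan_preservesFiniteLimits (Scheme.ProEt.forget T)
  have := BigSiteLib.lan_map_preservesFiniteLimits f
  let e : (Scheme.ProEt.forget T).op.lan ⋙ (Over.map f).op.lan ≅
      ((Scheme.ProEt.forget T ⋙ Over.map f).op.lan :
        (T.ProEtᵒᵖ ⥤ AddCommGrpCat.{u + 1}) ⥤ (Over S)ᵒᵖ ⥤ AddCommGrpCat.{u + 1}) :=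
    Adjunction.leftAdjointUniq
      (((Scheme.ProEt.forget T).op.lanAdjunction AddCommGrpCat.{u + 1}).comp
        ((Over.map f).op.lanAdjunction AddCommGrpCat.{u + 1}))
      ((Scheme.ProEt.forget T ⋙ Over.map f).op.lanAdjunction AddCommGrpCat.{u + 1})
  exact preservesFiniteLimits_of_natIso e

theorem injective_restrict (f : T ⟶ S)
    [(Scheme.ProEt.forget T ⋙ Over.map f).IsContinuous (Scheme.ProEt.topology T) (Scheme.proetaleTopology.over S)]
    (I : Sheaf (Scheme.proetaleTopology.over S) AddCommGrpCat.{u + 1}) [Injective I] :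
    Injective (((Scheme.ProEt.forget T ⋙ Over.map f).sheafPushforwardContinuous AddCommGrpCat.{u + 1}
      (Scheme.ProEt.topology T) (Scheme.proetaleTopology.over S)).obj I) := by
  have := lan_preservesFiniteLimits f
  let G := Scheme.ProEt.forget T ⋙ Over.map f
  let adj := Functor.sheafPullbackConstruction.sheafAdjunctionContinuous G AddCommGrpCat.{u + 1}
    (Scheme.ProEt.topology T) (Scheme.proetaleTopology.over S)
  have : PreservesFiniteLimits (G.op.lan ⋙ presheafToSheaf (Scheme.proetaleTopology.over S) AddCommGrpCat.{u + 1}) :=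
    comp_preservesFiniteLimits _ _
  have : PreservesFiniteLimits (sheafToPresheaf (Scheme.ProEt.topology T) AddCommGrpCat.{u + 1} ⋙
      G.op.lan ⋙ presheafToSheaf (Scheme.proetaleTopology.over S) AddCommGrpCat.{u + 1}) :=
    comp_preservesFiniteLimits _ _
  have : (Functor.sheafPullbackConstruction.sheafPullback G AddCommGrpCat.{u + 1}
    (Scheme.ProEt.topology T) (Scheme.proetaleTopology.over S)).PreservesMonomorphisms :=
    inferInstanceAs ((sheafToPresheaf (Scheme.ProEt.topology T) AddCommGrpCat.{u + 1} ⋙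
      G.op.lan ⋙ presheafToSheaf (Scheme.proetaleTopology.over S) AddCommGrpCat.{u + 1}).PreservesMonomorphisms)
  exact Injective.injective_of_adjoint adj I

end Groth.Agent.ProBig71
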