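import Groth.Agent.ProBig71.Flat
import Groth.Agent.SiteBase.LerayTop
import Mathlib.CategoryTheory.Adjunction.Triple
import Mathlib.CategoryTheory.Sites.CoverLifting

/-!
# Restriction from the big to the small pro-etale site
-/

universe u

open CategoryTheory CategoryTheory.Limits AlgebraicGeometry Opposite

namespace Groth.Agent.ProBig71

set_option backward.isDefEq.respectTransparency.types false

variable (S : Scheme.{u})

/-- small coverings lift big ones -/
theorem isCocontinuous_forget :
    (Scheme.ProEt.forget S).IsCocontinuous (Scheme.ProEt.topology S) (Scheme.proetaleTopology.over S) := by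
  have e : Scheme.ProEt.topology S =
      (Scheme.ProEt.forget S).restrictedTopology (Scheme.proetaleTopology.over S) :=
    MorphismProperty.toGrothendieck_comap_forget_eq_restrictedTopology _
      Scheme.proetalePrecoverage_le_precoverage_weaklyEtale
  rw [e]
  infer_instance

/-- the left adjoint of restriction is fully faithful -/
theorem isIso_unit (F : Sheaf (Scheme.ProEt.topology S) AddCommGrpCat.{u + 1}) :
    IsIso (((Scheme.ProEt.forget S).sheafAdjunctionContinuous AddCommGrpCat.{u + 1}
      (Scheme.ProEt.topology S) (Scheme.proetaleTopology.over S)).unit.app F) := by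
  have := isCocontinuous_forget S
  let G := Scheme.ProEt.forget S
  let A := AddCommGrpCat.{u + 1}
  let J := Scheme.ProEt.topology S
  let K := Scheme.proetaleTopology.over S
  let adj := G.sheafAdjunctionCocontinuous A J K
  have : HasLimitsOfSize.{u, u + 1} AddCommGrpCat.{u + 1} := inferInstance
  have : G.op.Full := inferInstance
  have : G.op.Faithful := inferInstance
  have : ∀ P : S.ProEtᵒᵖ ⥤ A, G.op.HasPointwiseRightKanExtension P := fun P => inferInstance
  let i : G.sheafPushforwardCocontinuous A J K ⋙ G.sheafPushforwardContinuous A J K ≅ 𝟭 _ :=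
    NatIso.ofComponents
      (fun F => (fullyFaithfulSheafToPresheaf J A).preimageIso (@asIso _ _ _ _ (G.op.ranCounit.app F.obj) (@NatIso.isIso_of_isIso_app _ _ _ _ _ _ _ fun X =>
        (G.op.isPointwiseRightKanExtensionRanCounit F.obj (G.op.obj X)).isIso_hom_app)))
      fun {F F'} φ => Sheaf.hom_ext ((G.op.ranCounit).naturality φ.hom)
  let hH := adj.fullyFaithfulROfCompIsoId i
  let t : Adjunction.Triple (G.sheafPullback A J K) (G.sheafPushforwardContinuous A J K)
      (G.sheafPushforwardCocontinuous A J K) := ⟨G.sheafAdjunctionContinuous A J K, adj⟩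
  have := (t.fullyFaithfulEquiv.symm hH).full
  have := (t.fullyFaithfulEquiv.symm hH).faithful
  exact inferInstance

/-- restriction is exact -/
theorem isZero_rightDerived_restrict
    [((Scheme.ProEt.forget S).sheafPushforwardContinuous AddCommGrpCat.{u + 1} (Scheme.ProEt.topology S)
      (Scheme.proetaleTopology.over S)).Additive]
    [HasInjectiveResolutions (Sheaf (Scheme.proetaleTopology.over S) AddCommGrpCat.{u + 1})]
    (G : Sheaf (Scheme.proetaleTopology.over S) AddCommGrpCat.{u + 1}) (q : ℕ) :
    IsZero ((((Scheme.ProEt.forget S).sheafPushforwardContinuous AddCommGrpCat.{u + 1}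
        (Scheme.ProEt.topology S) (Scheme.proetaleTopology.over S)).rightDerived (q + 1)).obj G) := by
  have := isCocontinuous_forget S
  let R := (Scheme.ProEt.forget S).sheafPushforwardContinuous AddCommGrpCat.{u + 1}
    (Scheme.ProEt.topology S) (Scheme.proetaleTopology.over S)
  have : PreservesFiniteLimits R :=
    have := ((Scheme.ProEt.forget S).sheafAdjunctionContinuous AddCommGrpCat.{u + 1}
      (Scheme.ProEt.topology S) (Scheme.proetaleTopology.over S)).rightAdjoint_preservesLimits
    inferInstance
  have : PreservesFiniteColimits R :=
    have := ((Scheme.ProEt.forget S).sheafAdjunctionCocontinuous AddCommGrpCat.{u + 1}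
      (Scheme.ProEt.topology S) (Scheme.proetaleTopology.over S)).leftAdjoint_preservesColimits
    inferInstance
  exact LerayDegen.isZero_rightDerived_of_exact R G q

end Groth.Agent.ProBig71
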